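/-
Regular nilpotent endomorphisms (a single Jordan block): kernels of powers, invariant subspaces,
cyclic vectors, the commutant and determinants of its members.
-/
import Mathlib

set_option autoImplicit false

namespace Cfsg.Agent.RegNilp

open Module Polynomial

variable {F : Type*} [Field F] {V : Type*} [AddCommGroup V] [Module F V] [FiniteDimensional F V]

theorem pow_finrank_eq_zero {f : Module.End F V} (h : IsNilpotent f) : f ^ finrank F V = 0 := by
  have := LinearMap.aeval_self_charpoly f
  rwa [h.charpoly_eq_X_pow_finrank, map_pow, aeval_X] at this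

theorem det_algebraMap_add {f : Module.End F V} (h : IsNilpotent f) (c : F) :
    LinearMap.det (algebraMap F (Module.End F V) c + f) = c ^ finrank F V := by
  have := LinearMap.eval_charpoly (-f) c
  rw [sub_neg_eq_add] at this
  rw [← this, h.neg.charpoly_eq_X_pow_finrank, eval_pow, eval_X]

theorem finrank_ker_mul_le (f g : Module.End F V) :
    finrank F (LinearMap.ker (f * g)) ≤ finrank F (LinearMap.ker f) + finrank F (LinearMap.ker g) := by
  let h : LinearMap.ker (f * g) →ₗ[F] LinearMap.ker f :=
    LinearMap.codRestrict _ (g ∘ₗ (LinearMap.ker (f * g)).subtype) (fun x => x.2)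
  have hk : finrank F (LinearMap.ker h) ≤ finrank F (LinearMap.ker g) := by
    refine LinearMap.finrank_le_finrank_of_injective
      (f := LinearMap.codRestrict (LinearMap.ker g)
        ((LinearMap.ker (f * g)).subtype ∘ₗ (LinearMap.ker h).subtype)
        (fun x => congrArg Subtype.val x.2)) ?_
    intro x y hxy
    exact Subtype.ext (Subtype.ext (congrArg (fun t : LinearMap.ker g => (t : V)) hxy :))
  have h1 := h.finrank_range_add_finrank_ker
  have h2 := Submodule.finrank_le (LinearMap.range h)
  omega

variable {N : Module.End F V}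

theorem finrank_ker_pow (h0 : N ^ finrank F V = 0)
    (h1 : finrank F (LinearMap.range N) = finrank F V - 1) {j : ℕ} (hj : j ≤ finrank F V) :
    finrank F (LinearMap.ker (N ^ j)) = j := by
  rcases Nat.eq_zero_or_pos (finrank F V) with hV | hV
  · have := Submodule.finrank_le (LinearMap.ker (N ^ j))
    omega
  have hk1 : finrank F (LinearMap.ker N) = 1 := by
    have := N.finrank_range_add_finrank_ker
    omega
  have hup : ∀ j, finrank F (LinearMap.ker (N ^ j)) ≤ j := by
    intro j
    induction j with
    | zero => simp [Module.End.one_eq_id]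
    | succ j ih =>
      rw [pow_succ]
      have := finrank_ker_mul_le (N ^ j) N
      omega
  refine le_antisymm (hup j) ?_
  have hsum := finrank_ker_mul_le (N ^ j) (N ^ (finrank F V - j))
  rw [← pow_add, Nat.add_sub_cancel' hj, h0, LinearMap.ker_zero, finrank_top] at hsum
  have := hup (finrank F V - j)
  omega

theorem range_pow_eq_ker_pow (h0 : N ^ finrank F V = 0)
    (h1 : finrank F (LinearMap.range N) = finrank F V - 1) {j : ℕ} (hj : j ≤ finrank F V) :
    LinearMap.range (N ^ j) = LinearMap.ker (N ^ (finrank F V - j)) := by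
  apply Submodule.eq_of_le_of_finrank_eq
  · rintro _ ⟨x, rfl⟩
    rw [LinearMap.mem_ker, ← Module.End.mul_apply, ← pow_add, Nat.sub_add_cancel hj, h0, LinearMap.zero_apply]
  · rw [finrank_ker_pow h0 h1 (Nat.sub_le _ _)]
    have := (N ^ j).finrank_range_add_finrank_ker
    rw [finrank_ker_pow h0 h1 hj] at this
    omega

theorem invariant_le_ker (hN : IsNilpotent N) (W : Submodule F V) (hW : ∀ v ∈ W, N v ∈ W) :
    W ≤ LinearMap.ker (N ^ finrank F W) := by
  intro v hv
  have hr : IsNilpotent (N.restrict hW) := by
    obtain ⟨k, hk⟩ := hN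
    refine ⟨k, LinearMap.ext fun x => Subtype.ext ?_⟩
    rw [Module.End.pow_restrict _ hW]
    simp [LinearMap.restrict_apply, hk]
  have := LinearMap.congr_fun (pow_finrank_eq_zero hr) ⟨v, hv⟩
  rw [LinearMap.zero_apply, Module.End.pow_restrict _ hW] at this
  simpa [LinearMap.restrict_apply] using congrArg Subtype.val this

theorem invariant_eq_ker (h0 : N ^ finrank F V = 0)
    (h1 : finrank F (LinearMap.range N) = finrank F V - 1) (W : Submodule F V) (hW : ∀ v ∈ W, N v ∈ W) :
    W = LinearMap.ker (N ^ finrank F W) :=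
  Submodule.eq_of_le_of_finrank_eq (invariant_le_ker ⟨_, h0⟩ W hW)
    (finrank_ker_pow h0 h1 W.finrank_le).symm

/-- A vector outside `ker N^(n-1)`. -/
theorem exists_cyclic (h0 : N ^ finrank F V = 0)
    (h1 : finrank F (LinearMap.range N) = finrank F V - 1) (hn : 1 ≤ finrank F V) :
    ∃ v, (N ^ (finrank F V - 1)) v ≠ 0 := by
  by_contra h
  push Not at h
  have := finrank_ker_pow h0 h1 (Nat.sub_le (finrank F V) 1)
  rw [LinearMap.ker_eq_top.2 (LinearMap.ext h), finrank_top] at this
  omega

/-- The span of the iterates of a vector. -/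
theorem cyclic_span (hn : 1 ≤ finrank F V) (hN : IsNilpotent N) {v : V}
    (hv : (N ^ (finrank F V - 1)) v ≠ 0) :
    Submodule.span F (Set.range fun i : ℕ => (N ^ i) v) = ⊤ := by
  set W := Submodule.span F (Set.range fun i : ℕ => (N ^ i) v) with hWdef
  have hW : ∀ w ∈ W, N w ∈ W := by
    intro w hw
    have hle : W.map N ≤ W := by
      rw [hWdef, Submodule.map_span_le]
      rintro _ ⟨i, rfl⟩
      exact Submodule.subset_span ⟨i + 1, by simp only [pow_succ', Module.End.mul_apply]⟩
    exact hle ⟨w, hw, rfl⟩
  by_contra hne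
  have hlt : finrank F W < finrank F V := Submodule.finrank_lt hne
  have hker := invariant_le_ker hN W hW (Submodule.subset_span ⟨0, by simp⟩ : v ∈ W)
  refine hv ?_
  rw [show finrank F V - 1 = (finrank F V - 1 - finrank F W) + finrank F W by omega, pow_add,
    Module.End.mul_apply, LinearMap.mem_ker.1 hker, map_zero]

theorem commute_eq_of_apply_eq (hn : 1 ≤ finrank F V) (hN : IsNilpotent N) {v : V}
    (hv : (N ^ (finrank F V - 1)) v ≠ 0) {X Y : Module.End F V} (hX : Commute X N) (hY : Commute Y N)
    (h : X v = Y v) : X = Y := by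
  refine LinearMap.ext_on (cyclic_span hn hN hv) ?_
  rintro _ ⟨i, rfl⟩
  have hx := LinearMap.congr_fun (hX.pow_right i).eq v
  have hy := LinearMap.congr_fun (hY.pow_right i).eq v
  simp only [Module.End.mul_apply] at hx hy
  rw [hx, hy, h]

/-- Every vector is the image of a cyclic vector under a polynomial in `N`. -/
theorem exists_poly (hn : 1 ≤ finrank F V) (hN : IsNilpotent N) {v : V}
    (hv : (N ^ (finrank F V - 1)) v ≠ 0) (w : V) : ∃ P : F[X], aeval N P v = w := by
  have : w ∈ LinearMap.range ((LinearMap.applyₗ v).comp (aeval N : F[X] →ₐ[F] Module.End F V).toLinearMap) := by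
    have htop := cyclic_span hn hN hv
    refine (htop ▸ Submodule.span_le.2 ?_ : (⊤ : Submodule F V) ≤ _) Submodule.mem_top
    rintro _ ⟨i, rfl⟩
    exact ⟨X ^ i, by simp⟩
  exact this

theorem eq_aeval_of_commute (hn : 1 ≤ finrank F V) (hN : IsNilpotent N) {v : V}
    (hv : (N ^ (finrank F V - 1)) v ≠ 0) {X : Module.End F V} (hX : Commute X N) :
    ∃ P : F[X], X = aeval N P := by
  obtain ⟨P, hP⟩ := exists_poly hn hN hv (X v)
  refine ⟨P, commute_eq_of_apply_eq hn hN hv hX ?_ hP.symm⟩
  have := (Commute.all P Polynomial.X).map (aeval N : F[X] →ₐ[F] Module.End F V)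
  rwa [aeval_X] at this

/-- The determinant of a polynomial in a nilpotent endomorphism. -/
theorem det_aeval (hN : IsNilpotent N) (P : F[X]) :
    LinearMap.det (aeval N P) = P.eval 0 ^ finrank F V := by
  obtain ⟨R, hR⟩ : Polynomial.X ∣ P - C (P.eval 0) := X_dvd_iff.2 (by simp [coeff_zero_eq_eval_zero])
  have hP : aeval N P = algebraMap F (Module.End F V) (P.eval 0) + N * aeval N R := by
    have := congrArg (aeval N) hR
    rw [map_mul, map_sub, aeval_X, aeval_C] at this
    rw [← this]; abel
  have hc : Commute N (aeval N R) := by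
    have := (Commute.all Polynomial.X R).map (aeval N : F[X] →ₐ[F] Module.End F V)
    rwa [aeval_X] at this
  rw [hP, det_algebraMap_add (hc.isNilpotent_mul_right hN)]

/-- A member of the commutant is invertible iff it sends a cyclic vector to a cyclic vector. -/
theorem commute_isUnit_iff (hn : 1 ≤ finrank F V) (hN : IsNilpotent N) {v : V}
    (hv : (N ^ (finrank F V - 1)) v ≠ 0) {X : Module.End F V} (hX : Commute X N) :
    IsUnit X ↔ (N ^ (finrank F V - 1)) (X v) ≠ 0 := by
  have hc := LinearMap.congr_fun (hX.pow_right (finrank F V - 1)).eq v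
  simp only [Module.End.mul_apply] at hc
  constructor
  · intro hu h
    rw [← hc] at h
    exact hv (((Module.End.isUnit_iff X).1 hu).1 (h.trans (map_zero X).symm))
  · intro hw
    rw [Module.End.isUnit_iff]
    have hsurj : Function.Surjective X := by
      rw [← LinearMap.range_eq_top]
      apply top_le_iff.1
      rw [← cyclic_span hn hN hw, Submodule.span_le]
      rintro _ ⟨i, rfl⟩
      refine ⟨(N ^ i) v, ?_⟩
      have := LinearMap.congr_fun (hX.pow_right i).eq v
      simpa only [Module.End.mul_apply] using this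
    exact ⟨LinearMap.injective_iff_surjective.2 hsurj, hsurj⟩

/-- The units of the commutant correspond to the cyclic vectors. -/
theorem card_unit_commutant [Finite F] (h0 : N ^ finrank F V = 0)
    (h1 : finrank F (LinearMap.range N) = finrank F V - 1) (hn : 1 ≤ finrank F V) :
    Nat.card {X : Module.End F V // IsUnit X ∧ Commute X N} =
      (Nat.card F - 1) * Nat.card F ^ (finrank F V - 1) := by
  classical
  have hN : IsNilpotent N := ⟨_, h0⟩
  obtain ⟨v, hv⟩ := exists_cyclic h0 h1 hn
  have : Finite V := Module.finite_of_finite F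
  have e : Nat.card {X : Module.End F V // IsUnit X ∧ Commute X N} =
      Nat.card {w : V // w ∉ LinearMap.ker (N ^ (finrank F V - 1))} := by
    refine Nat.card_congr (Equiv.ofBijective
      (fun X => ⟨X.1 v, fun h => (commute_isUnit_iff hn hN hv X.2.2).1 X.2.1 h⟩) ⟨?_, ?_⟩)
    · intro X Y h
      exact Subtype.ext (commute_eq_of_apply_eq hn hN hv X.2.2 Y.2.2 (congrArg Subtype.val h))
    · rintro ⟨w, hw⟩
      obtain ⟨P, hP⟩ := exists_poly hn hN hv w
      have hc : Commute (aeval N P) N := by
        have := (Commute.all P Polynomial.X).map (aeval N : F[X] →ₐ[F] Module.End F V)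
        rwa [aeval_X] at this
      exact ⟨⟨aeval N P, (commute_isUnit_iff hn hN hv hc).2 (hP.symm ▸ hw), hc⟩, Subtype.ext hP⟩
  rw [e]
  have := Fintype.ofFinite V
  rw [Nat.card_eq_fintype_card, Fintype.card_subtype_compl]
  rw [← Nat.card_eq_fintype_card, ← Nat.card_eq_fintype_card]
  show Nat.card V - Nat.card (LinearMap.ker (N ^ (finrank F V - 1))) = _
  rw [Module.natCard_eq_pow_finrank (K := F) (V := V),
    Module.natCard_eq_pow_finrank (K := F) (V := LinearMap.ker (N ^ (finrank F V - 1))),
    finrank_ker_pow h0 h1 (Nat.sub_le _ _), tsub_mul, one_mul, ← pow_succ', Nat.sub_add_cancel hn]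

end Cfsg.Agent.RegNilp
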