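/-
Regular unipotent matrices: passage to endomorphisms, conjugacy, centraliser.
-/
import Mathlib
import Cfsg.Agent.Lib.RegNilp.Basic

set_option autoImplicit false

namespace Cfsg.Agent.RegNilp

open Module Polynomial

variable {F : Type*} [Field F] {ι : Type*} [Fintype ι] [DecidableEq ι]

theorem toLin_pow_eq_zero {M : Matrix ι ι F} {n : ℕ} (hn : n = Fintype.card ι) (hnil : M ^ n = 0) :
    (Matrix.toLinAlgEquiv' M) ^ finrank F (ι → F) = 0 := by
  rw [Module.finrank_fintype_fun_eq_card, ← map_pow, ← hn, hnil, map_zero]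

theorem finrank_range_toLin {M : Matrix ι ι F} {n : ℕ} (hn : n = Fintype.card ι) (hreg : M.rank = n - 1) :
    finrank F (LinearMap.range (Matrix.toLinAlgEquiv' M)) = finrank F (ι → F) - 1 := by
  rw [Module.finrank_fintype_fun_eq_card, ← hn, ← hreg]
  rfl

theorem toLin_pow_apply (M : Matrix ι ι F) (j : ℕ) (v : ι → F) :
    ((Matrix.toLinAlgEquiv' M) ^ j) v = (M ^ j).mulVec v := by
  rw [← map_pow]; rfl

theorem commute_sub_one_iff {g u : Matrix ι ι F} : Commute g (u - 1) ↔ g * u = u * g := by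
  rw [Commute, SemiconjBy, mul_sub, sub_mul, mul_one, one_mul, sub_left_inj]

theorem card_centralizer [Finite F] (u : GL ι F) {n : ℕ} (hn : n = Fintype.card ι) (hpos : 1 ≤ n)
    (hnil : ((u : Matrix ι ι F) - 1) ^ n = 0) (hreg : ((u : Matrix ι ι F) - 1).rank = n - 1) :
    Nat.card ↥(Subgroup.centralizer ({u} : Set (GL ι F))) = (Nat.card F - 1) * Nat.card F ^ (n - 1) := by
  have h := card_unit_commutant (toLin_pow_eq_zero hn hnil) (finrank_range_toLin hn hreg)
    (by rw [Module.finrank_fintype_fun_eq_card, ← hn]; exact hpos)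
  rw [Module.finrank_fintype_fun_eq_card, ← hn] at h
  rw [← h]
  refine Nat.card_congr (Equiv.ofBijective (fun g => ⟨Matrix.toLinAlgEquiv' ((g : GL ι F) : Matrix ι ι F),
    (Units.isUnit (g : GL ι F)).map Matrix.toLinAlgEquiv', ?_⟩) ⟨?_, ?_⟩)
  · refine Commute.map ?_ Matrix.toLinAlgEquiv'
    rw [commute_sub_one_iff]
    exact congrArg Units.val (Subgroup.mem_centralizer_singleton_iff.1 g.2)
  · intro a b hab
    exact Subtype.ext (Units.ext (Matrix.toLinAlgEquiv'.injective (congrArg Subtype.val hab)))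
  · rintro ⟨X, hu, hc⟩
    obtain ⟨g, hg⟩ := hu.map Matrix.toLinAlgEquiv'.symm
    refine ⟨⟨g, ?_⟩, Subtype.ext ((congrArg Matrix.toLinAlgEquiv' hg).trans (Matrix.toLinAlgEquiv'.apply_symm_apply X))⟩
    rw [Subgroup.mem_centralizer_singleton_iff]
    refine Units.ext (commute_sub_one_iff.1 ?_)
    have := hc.map Matrix.toLinAlgEquiv'.symm
    rwa [AlgEquiv.symm_apply_apply, ← hg] at this

/-- Two regular nilpotent matrices are similar. -/
theorem exists_conj {M₁ M₂ : Matrix ι ι F} {n : ℕ} (hn : n = Fintype.card ι) (hpos : 1 ≤ n)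
    (h₁ : M₁ ^ n = 0) (r₁ : M₁.rank = n - 1) (h₂ : M₂ ^ n = 0) (r₂ : M₂.rank = n - 1) :
    ∃ g : GL ι F, (g : Matrix ι ι F) * M₁ = M₂ * (g : Matrix ι ι F) := by
  have hd : finrank F (ι → F) = n := by rw [Module.finrank_fintype_fun_eq_card, ← hn]
  have key : ∀ M : Matrix ι ι F, M ^ n = 0 → M.rank = n - 1 →
      ∃ b : Basis (Fin n) F (ι → F), ∃ v, ∀ i : Fin n, b i = ((Matrix.toLinAlgEquiv' M) ^ (i : ℕ)) v := by
    intro M hM rM
    obtain ⟨v, hv⟩ := exists_cyclic (toLin_pow_eq_zero hn hM) (finrank_range_toLin hn rM) (hd ▸ hpos)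
    have hspan := cyclic_span (hd ▸ hpos) ⟨_, toLin_pow_eq_zero hn hM⟩ hv
    have htop : (⊤ : Submodule F (ι → F)) ≤
        Submodule.span F (Set.range fun i : Fin n => ((Matrix.toLinAlgEquiv' M) ^ (i : ℕ)) v) := by
      rw [← hspan, Submodule.span_le]
      rintro _ ⟨i, rfl⟩
      rcases lt_or_ge i n with hi | hi
      · exact Submodule.subset_span ⟨⟨i, hi⟩, rfl⟩
      · show ((Matrix.toLinAlgEquiv' M) ^ i) v ∈ _
        rw [toLin_pow_apply, show i = n + (i - n) by omega, pow_add, hM, zero_mul, Matrix.zero_mulVec]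
        exact zero_mem _
    refine ⟨basisOfTopLeSpanOfCardEqFinrank _ htop (by simp [hd]), v, fun i => ?_⟩
    rw [coe_basisOfTopLeSpanOfCardEqFinrank]
  obtain ⟨b₁, v₁, hb₁⟩ := key M₁ h₁ r₁
  obtain ⟨b₂, v₂, hb₂⟩ := key M₂ h₂ r₂
  let e : (ι → F) ≃ₗ[F] (ι → F) := b₁.equiv b₂ (Equiv.refl _)
  let g : GL ι F :=
    ⟨Matrix.toLinAlgEquiv'.symm e.toLinearMap, Matrix.toLinAlgEquiv'.symm e.symm.toLinearMap,
      by rw [← map_mul, show e.toLinearMap * e.symm.toLinearMap = 1 from LinearMap.ext fun x => by simp, map_one],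
      by rw [← map_mul, show e.symm.toLinearMap * e.toLinearMap = 1 from LinearMap.ext fun x => by simp, map_one]⟩
  refine ⟨g, Matrix.toLinAlgEquiv'.injective ?_⟩
  rw [map_mul, map_mul]
  simp only [g, AlgEquiv.apply_symm_apply]
  refine b₁.ext fun i => ?_
  have he : ∀ j : Fin n, e (b₁ j) = b₂ j := fun j => by simp [e]
  rw [Module.End.mul_apply, Module.End.mul_apply]
  show e (_) = (Matrix.toLinAlgEquiv' M₂) (e (b₁ i))
  rw [he, hb₁, hb₂, ← Module.End.mul_apply, ← Module.End.mul_apply, ← pow_succ', ← pow_succ']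
  by_cases hi : (i : ℕ) + 1 < n
  · rw [← hb₁ ⟨(i : ℕ) + 1, hi⟩, he, hb₂]
  · have hi' : (i : ℕ) + 1 = n := by omega
    rw [hi', toLin_pow_apply, toLin_pow_apply, h₁, h₂, Matrix.zero_mulVec, map_zero, Matrix.zero_mulVec]

end Cfsg.Agent.RegNilp
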